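/-
Majorana involutions: eigenvector decompositions and transport by automorphisms.
-/
import Cfsg.Prelude.Def_AxialAlgebras

set_option autoImplicit false

namespace CfsgLib.Majorana

open Cfsg Cfsg.Axial

variable {V : Type*} [AddCommGroup V] [Module ℝ V] {mul : V →ₗ[ℝ] V →ₗ[ℝ] V}

theorem mem_eigen {a x : V} {c : ℝ} : x ∈ eigen mul a c ↔ mul a x = c • x := Module.End.mem_eigenspace_iff

theorem eigenSum_empty (a : V) : eigenSum mul a (∅ : Set ℝ) = ⊥ := by simp [eigenSum]

theorem eigenSum_singleton (a : V) (c : ℝ) : eigenSum mul a {c} = eigen mul a c := by simp [eigenSum]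

theorem eigenSum_insert (a : V) (c : ℝ) (S : Set ℝ) :
    eigenSum mul a (insert c S) = eigen mul a c ⊔ eigenSum mul a S := by
  simp only [eigenSum, iSup_insert]

theorem exists_one_zero {a x : V} (h : x ∈ eigenSum mul a {1, 0}) :
    ∃ p q, mul a p = p ∧ mul a q = 0 ∧ x = p + q := by
  rw [eigenSum_insert, eigenSum_singleton, Submodule.mem_sup] at h
  obtain ⟨p, hp, q, hq, rfl⟩ := h
  rw [mem_eigen, one_smul] at hp
  rw [mem_eigen, zero_smul] at hq
  exact ⟨p, q, hp, hq, rfl⟩

/-- The eigenspace for a quarter meets the sum of those for one and zero trivially. -/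
theorem eq_zero_of_quarter {a x : V} (h : x ∈ eigenSum mul a {1, 0})
    (hx : mul a x = (1 / 4 : ℝ) • x) : x = 0 := by
  obtain ⟨p, q, hp, hq, rfl⟩ := exists_one_zero h
  rw [map_add, hp, hq, add_zero] at hx
  have h1 := congrArg (mul a) hx
  rw [map_smul, hp, map_add, hp, hq, add_zero] at h1
  have h2 : (3 / 4 : ℝ) • p = 0 := by linear_combination (norm := module) h1
  have hp0 : p = 0 := (smul_eq_zero.1 h2).resolve_left (by norm_num)
  subst hp0
  simpa using hx.symm

theorem fusion {law : ℝ → ℝ → Set ℝ} {S : Set ℝ} {a : V} (h : IsAxis mul law S a) {c d : ℝ}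
    (hc : c ∈ S) (hd : d ∈ S) {x y : V} (hx : mul a x = c • x) (hy : mul a y = d • y) :
    mul x y ∈ eigenSum mul a (law c d) :=
  h.2.2.2 c hc d hd x (mem_eigen.2 hx) y (mem_eigen.2 hy)

theorem law_quarter : monsterLaw (1 / 4 : ℝ) (1 / 32) (1 / 4) (1 / 4) = {1, 0} := by
  simp [monsterLaw]

theorem law_zero : monsterLaw (1 / 4 : ℝ) (1 / 32) 0 0 = {0} := by
  norm_num [monsterLaw]

theorem law_zero_quarter : monsterLaw (1 / 4 : ℝ) (1 / 32) 0 (1 / 4) = {1 / 4} := by
  norm_num [monsterLaw]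

variable {B : LinearMap.BilinForm ℝ V}

/-- A vector fixed by the involution has no component in the odd eigenspace. -/
theorem decompose_fixed {μ : V ≃ₗ[ℝ] V} {a x : V} (h : IsMajoranaPair mul B μ a) (hx : μ x = x) :
    ∃ (α : ℝ) (u v : V), x = α • a + u + v ∧ mul a u = 0 ∧ mul a v = (1 / 4 : ℝ) • v := by
  obtain ⟨-, -, ⟨⟨-, -, htop, -⟩, hone⟩, hfix, hneg⟩ := h
  have hsplit : eigenSum mul a ({1, 0, 1 / 4} : Set ℝ) ⊔ eigen mul a (1 / 32) = ⊤ := by
    rw [← htop]
    simp only [majoranaSpectrum, eigenSum_insert, eigenSum_singleton, sup_assoc]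
  obtain ⟨p, hp, w, hw, rfl⟩ := Submodule.mem_sup.1 (hsplit.ge (Submodule.mem_top (x := x)))
  have hfp : μ p = p := hfix p hp
  have hfw : μ w = -w := hneg w hw
  rw [map_add, hfp, hfw] at hx
  have h2 : (2 : ℝ) • w = 0 := by linear_combination (norm := module) -hx
  have hw0 : w = 0 := (smul_eq_zero.1 h2).resolve_left (by norm_num)
  simp only [eigenSum_insert, eigenSum_singleton, hone] at hp
  obtain ⟨q, hq, r, hr, rfl⟩ := Submodule.mem_sup.1 hp
  obtain ⟨u, hu, v, hv, rfl⟩ := Submodule.mem_sup.1 hr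
  obtain ⟨α, rfl⟩ := Submodule.mem_span_singleton.1 hq
  rw [mem_eigen, zero_smul] at hu
  exact ⟨α, u, v, by rw [hw0, add_zero, add_assoc], hu, mem_eigen.1 hv⟩

/-- Transport of a Majorana pair by an automorphism of the algebra with form. -/
theorem pair_map {μ φ : V ≃ₗ[ℝ] V} {a : V} (h : IsMajoranaPair mul B μ a)
    (hφm : ∀ x y, φ (mul x y) = mul (φ x) (φ y)) (hφB : ∀ x y, B (φ x) (φ y) = B x y) :
    IsMajoranaPair mul B (φ * μ * φ⁻¹) (φ a) := by
  obtain ⟨hm, hB, ⟨⟨ha0, haa, htop, hfus⟩, hone⟩, hfix, hneg⟩ := h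
  have hinv : ∀ x, φ ((φ⁻¹ : V ≃ₗ[ℝ] V) x) = x := fun x => φ.apply_symm_apply x
  have hinv' : ∀ x, (φ⁻¹ : V ≃ₗ[ℝ] V) (φ x) = x := fun x => φ.symm_apply_apply x
  have heig : ∀ c, eigen mul (φ a) c = (eigen mul a c).map (φ : V →ₗ[ℝ] V) := by
    intro c
    ext x
    rw [Submodule.mem_map, mem_eigen]
    constructor
    · intro hx
      refine ⟨(φ⁻¹ : V ≃ₗ[ℝ] V) x, mem_eigen.2 (φ.injective ?_), hinv x⟩
      rw [hφm, map_smul, hinv, hx]
    · rintro ⟨y, hy, rfl⟩
      show mul (φ a) (φ y) = c • φ y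
      rw [← hφm, mem_eigen.1 hy, map_smul]
  have hsum : ∀ S, eigenSum mul (φ a) S = (eigenSum mul a S).map (φ : V →ₗ[ℝ] V) := by
    intro S
    simp only [eigenSum, Submodule.map_iSup, heig]
  have hmul : ∀ x, (φ * μ * φ⁻¹ : V ≃ₗ[ℝ] V) x = φ (μ ((φ⁻¹ : V ≃ₗ[ℝ] V) x)) := fun x => rfl
  have hφm' : ∀ x y, (φ⁻¹ : V ≃ₗ[ℝ] V) (mul x y) =
      mul ((φ⁻¹ : V ≃ₗ[ℝ] V) x) ((φ⁻¹ : V ≃ₗ[ℝ] V) y) := fun x y =>
    φ.injective (by rw [hφm, hinv, hinv, hinv])
  have hφB' : ∀ x y, B ((φ⁻¹ : V ≃ₗ[ℝ] V) x) ((φ⁻¹ : V ≃ₗ[ℝ] V) y) = B x y := fun x y => by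
    rw [← hφB, hinv, hinv]
  refine ⟨fun x y => ?_, fun x y => ?_, ⟨⟨?_, ?_, ?_, ?_⟩, ?_⟩, ?_, ?_⟩
  · rw [hmul, hmul, hmul, hφm', hm, hφm]
  · rw [hmul, hmul, hφB, hB, hφB']
  · exact fun e => ha0 (φ.map_eq_zero_iff.1 e)
  · rw [← hφm, haa]
  · rw [hsum, htop, Submodule.map_top, LinearMap.range_eq_top]
    exact φ.surjective
  · intro c hc d hd x hx y hy
    rw [heig] at hx hy
    obtain ⟨x, hx, rfl⟩ := hx
    obtain ⟨y, hy, rfl⟩ := hy
    rw [hsum]
    exact ⟨_, hfus c hc d hd x hx y hy, hφm x y⟩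
  · rw [heig, hone, Submodule.map_span, Set.image_singleton]
    rfl
  · intro x hx
    rw [hsum] at hx
    obtain ⟨x, hx, rfl⟩ := hx
    show (φ * μ * φ⁻¹ : V ≃ₗ[ℝ] V) (φ x) = φ x
    rw [hmul, hinv']
    exact congrArg φ (hfix x hx)
  · intro x hx
    rw [heig] at hx
    obtain ⟨x, hx, rfl⟩ := hx
    show (φ * μ * φ⁻¹ : V ≃ₗ[ℝ] V) (φ x) = -φ x
    rw [hmul, hinv', show μ x = -x from hneg x hx, map_neg]

/-- Commuting Majorana involutions with unique axes give a pair of type 2B or 2A. -/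
theorem commuting_pair (hV : IsMajoranaAmbient mul B) {μ₀ μ₁ : V ≃ₗ[ℝ] V} {a b : V}
    (h₀ : IsMajoranaPair mul B μ₀ a) (h₁ : IsMajoranaPair mul B μ₁ b)
    (hu₀ : ∀ x : V, IsMajoranaPair mul B μ₀ x → x = a) (hu₁ : ∀ x : V, IsMajoranaPair mul B μ₁ x → x = b)
    (hn₀ : B a a = 1) (hn₁ : B b b = 1) (hc : μ₀ * μ₁ = μ₁ * μ₀) (hne : a ≠ b) :
    (B a b = 0 ∧ mul a b = 0) ∨ (B a b = 1 / 8 ∧
      mul (a + b - (8 : ℝ) • mul a b) (a + b - (8 : ℝ) • mul a b) = a + b - (8 : ℝ) • mul a b ∧
      mul a (a + b - (8 : ℝ) • mul a b) = (1 / 8 : ℝ) • (a + (a + b - (8 : ℝ) • mul a b) - b) ∧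
      mul b (a + b - (8 : ℝ) • mul a b) = (1 / 8 : ℝ) • (b + (a + b - (8 : ℝ) • mul a b) - a)) := by
  obtain ⟨hcomm, hsym, hpos, hassoc, -⟩ := hV
  have haa : mul a a = a := h₀.2.2.1.1.2.1
  have hbb : mul b b = b := h₁.2.2.1.1.2.1
  have hb_fix : μ₀ b = b := by
    refine hu₁ _ ?_
    have := pair_map h₁ h₀.1 h₀.2.1
    rwa [hc, mul_inv_cancel_right] at this
  have ha_fix : μ₁ a = a := by
    refine hu₀ _ ?_
    have := pair_map h₀ h₁.1 h₁.2.1
    rwa [← hc, mul_inv_cancel_right] at this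
  obtain ⟨α, u, v, hb, hu, hv⟩ := decompose_fixed h₀ hb_fix
  obtain ⟨α', u', v', ha', hu', hv'⟩ := decompose_fixed h₁ ha_fix
  have hau : B a u = 0 := by
    have h := hassoc a a u
    rw [hu, map_zero, haa] at h
    exact h.symm
  have hav : B a v = 0 := by
    have h := hassoc a a v
    rw [hv, haa, map_smul, smul_eq_mul] at h
    linarith
  have hα : B a b = α := by
    rw [hb, map_add, map_add, map_smul, smul_eq_mul, hn₀, hau, hav]; ring
  have hα' : α' = α := by
    have hbu : B b u' = 0 := by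
      have h := hassoc b b u'
      rw [hu', map_zero, hbb] at h
      exact h.symm
    have hbv : B b v' = 0 := by
      have h := hassoc b b v'
      rw [hv', hbb, map_smul, smul_eq_mul] at h
      linarith
    rw [← hα, hsym a b]
    nth_rewrite 1 [ha']
    rw [map_add, map_add, map_smul, smul_eq_mul, hn₁, hbu, hbv]; ring
  subst hα'
  have hab : mul a b = α' • a + (1 / 4 : ℝ) • v := by
    rw [hb, map_add, map_add, map_smul, haa, hu, add_zero, hv]
  have hbba : mul b (mul b a) = (3 * α' / 4) • b + (1 / 4 : ℝ) • mul b a := by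
    have e : mul b a = α' • b + (1 / 4 : ℝ) • v' := by
      nth_rewrite 1 [ha']
      rw [map_add, map_add, map_smul, hbb, hu', add_zero, hv']
    rw [e, map_add, map_smul, map_smul, hbb, hv']
    module
  -- the eigencomponents of the square of `b`
  have hS : ∀ {c : ℝ}, c ∈ ({1, 0, 1 / 4, 1 / 32} : Set ℝ) → c ∈ majoranaSpectrum := fun h => h
  have hax := h₀.2.2.1.1
  have huu : mul a (mul u u) = 0 := by
    have := fusion hax (c := 0) (d := 0) (hS (by simp)) (hS (by simp)) (x := u) (y := u)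
      (by rw [hu, zero_smul]) (by rw [hu, zero_smul])
    rw [law_zero, eigenSum_singleton, mem_eigen, zero_smul] at this
    exact this
  have huv : mul a (mul u v) = (1 / 4 : ℝ) • mul u v := by
    have := fusion hax (c := 0) (d := 1 / 4) (hS (by simp)) (hS (by simp)) (x := u) (y := v)
      (by rw [hu, zero_smul]) hv
    rwa [law_zero_quarter, eigenSum_singleton, mem_eigen] at this
  obtain ⟨p, q, hp, hq, hvv⟩ : ∃ p q, mul a p = p ∧ mul a q = 0 ∧ mul v v = p + q := by
    have := fusion hax (c := 1 / 4) (d := 1 / 4) (hS (by simp)) (hS (by simp)) (x := v) (y := v) hv hv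
    rw [law_quarter] at this
    exact exists_one_zero this
  have huv' : mul u v = (1 / 2 - α' / 4) • v := by
    have h : mul b b = b := hbb
    rw [hb] at h
    simp only [map_add, map_smul, LinearMap.add_apply, LinearMap.smul_apply, haa, hu, hv,
      hcomm u a, hcomm v a, hcomm v u, hvv] at h
    -- apply the adjoint map twice to separate the eigenspaces
    have h1 := congrArg (mul a) h
    simp only [map_add, map_smul, map_zero, haa, hu, hv, huu, huv, hp, hq] at h1
    have h2 := congrArg (mul a) h1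
    simp only [map_add, map_smul, map_zero, haa, hu, hv, huu, huv, hp, hq] at h2
    linear_combination (norm := module) (8 / 3 : ℝ) • h1 - (8 / 3 : ℝ) • h2
  by_cases hv0 : v = 0
  · left
    subst hv0
    rw [add_zero] at hb
    simp only [smul_zero, add_zero] at hab
    have h : mul b b = b := hbb
    rw [hb] at h
    simp only [map_add, map_smul, LinearMap.add_apply, LinearMap.smul_apply, haa, hu, hcomm u a,
      smul_zero, add_zero, zero_add] at h
    have h1 := congrArg (mul a) h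
    simp only [map_add, map_smul, map_zero, haa, hu, huu, add_zero, smul_smul] at h1
    have h2 : (α' * α' - α') • a = 0 := by linear_combination (norm := module) h1
    have ha0 : a ≠ 0 := h₀.2.2.1.1.1
    rcases smul_eq_zero.1 h2 with e | e
    · rcases mul_eq_zero.1 (show α' * (α' - 1) = 0 by linarith) with e' | e'
      · exact ⟨hα.trans e', by rw [hab, e', zero_smul]⟩
      · exfalso
        have e1 : α' = 1 := by linarith
        have hu0 : u = 0 := by
          by_contra hne'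
          have hpu := hpos u hne'
          have hnorm : B b b = 1 := hn₁
          rw [hb, e1, one_smul] at hnorm
          simp only [map_add, LinearMap.add_apply, hn₀, hau, hsym u a] at hnorm
          linarith
        exact hne (by rw [hb, e1, hu0, one_smul, add_zero])
    · exact absurd e ha0
  right
  have h8 : α' = 1 / 8 := by
    have h := hbba
    rw [hcomm b a, hab, map_add, map_smul, map_smul, hcomm b a, hab, hb] at h
    simp only [map_add, map_smul, LinearMap.add_apply, LinearMap.smul_apply, haa, hu, hv, hcomm u a,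
      hcomm v a, hcomm v u, hvv, huv'] at h
    have h1 := congrArg (mul a) h
    simp only [map_add, map_smul, map_zero, haa, hu, hv, hp, hq] at h1
    have h2 := congrArg (mul a) h1
    simp only [map_add, map_smul, map_zero, haa, hu, hv, hp, hq] at h2
    have h3 : ((1 / 8 : ℝ) - α') • v = 0 := by
      linear_combination (norm := module) (32 / 3 : ℝ) • h1 - (32 / 3 : ℝ) • h2
    have := (smul_eq_zero.1 h3).resolve_right hv0
    linarith
  subst h8
  refine ⟨hα, ?_, ?_, ?_⟩
  · have hsq : mul b b = b := hbb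
    rw [hab, hb]
    rw [hb] at hsq
    simp only [map_add, map_sub, map_smul, LinearMap.add_apply, LinearMap.sub_apply,
      LinearMap.smul_apply, haa, hu, hv, hcomm u a, hcomm v a, hcomm v u, huv', smul_zero,
      add_zero, zero_add] at hsq ⊢
    linear_combination (norm := module) hsq
  · rw [map_sub, map_add, map_smul, haa, hab, map_add, map_smul, map_smul, haa, hv]
    module
  · rw [map_sub, map_add, map_smul, hbb, hcomm a b, hbba, hcomm b a, hab]
    module

end CfsgLib.Majorana
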